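import Groth.Agent.QCohLib.FiniteType
import Groth.Agent.FSmooth.Algebra

/-!
# Projectivity of sections is local
-/

universe u

open CategoryTheory AlgebraicGeometry Opposite TensorProduct Groth.Agent.QCohLib

set_option backward.isDefEq.respectTransparency false

namespace Groth.Agent.ProjLocal

variable {X : Scheme.{u}} (M : X.Modules) [M.IsQuasicoherent] {U : X.Opens}

theorem projective_basicOpen (hU : IsAffineOpen U) (f : Γ(X, U)) [Module.Projective Γ(X, U) Γ(M, U)] :
    Module.Projective Γ(X, X.basicOpen f) Γ(M, X.basicOpen f) := by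
  letI := resModule M (X.basicOpen_le f)
  haveI := resModule_tower M (f := f)
  haveI := hU.isLocalization_basicOpen f
  haveI := isLocalizedModule_res M hU f
  have hb : IsBaseChange Γ(X, X.basicOpen f) (resLinearMap M (X.basicOpen_le f)) :=
    IsLocalizedModule.isBaseChange (Submonoid.powers f) _ _
  exact Module.Projective.of_equiv hb.equiv

theorem projective_of_span (hU : IsAffineOpen U) (s : Finset Γ(X, U)) (hs : Ideal.span (s : Set Γ(X, U)) = ⊤)
    (h : ∀ f : s, Module.Projective Γ(X, X.basicOpen f.1) Γ(M, X.basicOpen f.1)) :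
    Module.Projective Γ(X, U) Γ(M, U) := by
  refine Groth.FSmooth.projective_of_localizations (fun f : s => f.1) (by simpa using hs) fun f => ?_
  haveI := h f
  letI := resModule M (X.basicOpen_le f.1)
  haveI := resModule_tower M (f := f.1)
  haveI := hU.isLocalization_basicOpen f.1
  haveI := isLocalizedModule_res M hU f.1
  let L := Localization.Away f.1
  let σ : Γ(X, X.basicOpen f.1) ≃ₐ[Γ(X, U)] L := IsLocalization.algEquiv (Submonoid.powers f.1) _ _
  letI := σ.toRingHom.toAlgebra
  haveI : IsScalarTower Γ(X, U) Γ(X, X.basicOpen f.1) L := IsScalarTower.of_algebraMap_eq fun x => (σ.commutes x).symm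
  have hb : IsBaseChange Γ(X, X.basicOpen f.1) (resLinearMap M (X.basicOpen_le f.1)) :=
    IsLocalizedModule.isBaseChange (Submonoid.powers f.1) _ _
  haveI : Module.Projective Γ(X, X.basicOpen f.1) (Γ(X, X.basicOpen f.1) ⊗[Γ(X, U)] Γ(M, U)) :=
    Module.Projective.of_equiv hb.equiv.symm
  exact Module.Projective.of_equiv
    (AlgebraTensorModule.cancelBaseChange Γ(X, U) Γ(X, X.basicOpen f.1) L L Γ(M, U))

theorem projective_of_cover {ι : Type*} (V : ι → X.affineOpens) (hV : (⨆ i, (V i).1) = ⊤)
    (h : ∀ i, Module.Projective Γ(X, (V i).1) Γ(M, (V i).1)) (U : X.affineOpens) :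
    Module.Projective Γ(X, U.1) Γ(M, U.1) := by
  induction U using of_affine_open_cover V hV with
  | basicOpen W f hW => exact projective_basicOpen M W.2 f
  | openCover W s hs hW => exact projective_of_span M W.2 s hs hW
  | hU i => exact h i

end Groth.Agent.ProjLocal
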